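import Mathlib.LinearAlgebra.ExteriorPower.Basic
import Mathlib.LinearAlgebra.ExteriorAlgebra.Grading
import Mathlib.RingTheory.TensorProduct.Basic
import Mathlib.LinearAlgebra.TensorProduct.Tower

/-! Base change of exterior powers: `B ⊗[A] ⋀[A]^p M ≃ₗ[B] ⋀[B]^p (B ⊗[A] M)`. -/

set_option autoImplicit false

namespace Groth.Agent.Lib.Helper24.ExtPowBC

open TensorProduct exteriorPower

variable (A B M : Type*) [CommRing A] [CommRing B] [Algebra A B] [AddCommGroup M] [Module A M]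

/-- the base change of `ι`. -/
noncomputable def φ : B ⊗[A] M →ₗ[B] B ⊗[A] ExteriorAlgebra A M :=
  (ExteriorAlgebra.ι A (M := M)).baseChange B

lemma φ_tmul (b : B) (m : M) : φ A B M (b ⊗ₜ m) = b ⊗ₜ ExteriorAlgebra.ι A m := rfl

lemma φ_anticomm (x y : B ⊗[A] M) : φ A B M x * φ A B M y + φ A B M y * φ A B M x = 0 := by
  induction x using TensorProduct.induction_on with
  | zero => simp
  | add x₁ x₂ h₁ h₂ =>
    rw [map_add, add_mul, mul_add, add_add_add_comm, h₁, h₂, add_zero]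
  | tmul b m =>
    induction y using TensorProduct.induction_on with
    | zero => simp
    | add y₁ y₂ h₁ h₂ =>
      rw [map_add, add_mul, mul_add, add_add_add_comm, h₁, h₂, add_zero]
    | tmul b' m' =>
      rw [φ_tmul, φ_tmul, Algebra.TensorProduct.tmul_mul_tmul, Algebra.TensorProduct.tmul_mul_tmul,
        mul_comm b' b, ← TensorProduct.tmul_add]
      have : ExteriorAlgebra.ι A m * ExteriorAlgebra.ι A m' +
          ExteriorAlgebra.ι A m' * ExteriorAlgebra.ι A m = 0 :=
        ExteriorAlgebra.ι_add_mul_swap m m'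
      rw [this, TensorProduct.tmul_zero]

lemma φ_sq (x : B ⊗[A] M) : φ A B M x * φ A B M x = 0 := by
  induction x using TensorProduct.induction_on with
  | zero => simp
  | add x₁ x₂ h₁ h₂ =>
    rw [map_add, add_mul, mul_add, mul_add, h₁, h₂, zero_add, add_zero, φ_anticomm]
  | tmul b m =>
    rw [φ_tmul, Algebra.TensorProduct.tmul_mul_tmul, ExteriorAlgebra.ι_sq_zero,
      TensorProduct.tmul_zero]

/-- the algebra map `⋀_B (B ⊗ M) → B ⊗ ⋀_A M`. -/
noncomputable def G : ExteriorAlgebra B (B ⊗[A] M) →ₐ[B] B ⊗[A] ExteriorAlgebra A M :=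
  ExteriorAlgebra.lift B ⟨φ A B M, φ_sq A B M⟩

lemma G_ι (x : B ⊗[A] M) : G A B M (ExteriorAlgebra.ι B x) = φ A B M x := by
  unfold G
  exact ExteriorAlgebra.lift_ι_apply _ _ _ _

/-- projection onto the degree `p` part. -/
noncomputable def proj (p : ℕ) : ExteriorAlgebra A M →ₗ[A] ⋀[A]^p M :=
  (DirectSum.component A ℕ (fun i => ⋀[A]^i M) p) ∘ₗ
    (DirectSum.decomposeLinearEquiv (fun i : ℕ => ⋀[A]^i M)).toLinearMap

lemma proj_coe (p : ℕ) (x : ⋀[A]^p M) : proj A M p (x : ExteriorAlgebra A M) = x := by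
  unfold proj
  rw [LinearMap.comp_apply, LinearEquiv.coe_coe, DirectSum.decomposeLinearEquiv_apply_coe,
    DirectSum.component.lof_self]

lemma G_ιMulti_one_tmul (p : ℕ) (m : Fin p → M) :
    G A B M (ExteriorAlgebra.ιMulti B p (fun i => (1 : B) ⊗ₜ[A] m i)) =
      (1 : B) ⊗ₜ[A] (ExteriorAlgebra.ιMulti A p m) := by
  rw [ExteriorAlgebra.ιMulti_apply, ExteriorAlgebra.ιMulti_apply, map_list_prod, List.map_ofFn]
  have h1 : ((G A B M) ∘ fun i => ExteriorAlgebra.ι B ((1 : B) ⊗ₜ[A] m i)) =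
      (Algebra.TensorProduct.includeRight (R := A) (A := B) (B := ExteriorAlgebra A M)) ∘
        fun i => ExteriorAlgebra.ι A (m i) := by
    funext i
    simp only [Function.comp_apply, G_ι, φ_tmul, Algebra.TensorProduct.includeRight_apply]
  rw [h1, ← List.map_ofFn, ← map_list_prod, Algebra.TensorProduct.includeRight_apply]

/-- the backward map. -/
noncomputable def g (p : ℕ) : ⋀[B]^p (B ⊗[A] M) →ₗ[B] B ⊗[A] ⋀[A]^p M :=
  ((proj A M p).baseChange B) ∘ₗ (G A B M).toLinearMap ∘ₗ (⋀[B]^p (B ⊗[A] M)).subtype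

lemma g_ιMulti_one_tmul (p : ℕ) (m : Fin p → M) :
    g A B M p (ιMulti B p (fun i => (1 : B) ⊗ₜ[A] m i)) = (1 : B) ⊗ₜ[A] ιMulti A p m := by
  unfold g
  rw [LinearMap.comp_apply, LinearMap.comp_apply, Submodule.subtype_apply, ιMulti_apply_coe,
    AlgHom.toLinearMap_apply, G_ιMulti_one_tmul, LinearMap.baseChange_tmul,
    ← ιMulti_apply_coe, proj_coe]

/-- the alternating map `m ↦ (1 ⊗ m₁) ∧ … ∧ (1 ⊗ m_p)`. -/
noncomputable def fAlt (p : ℕ) : M [⋀^Fin p]→ₗ[A] ↥(⋀[B]^p (B ⊗[A] M)) where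
  toMultilinearMap := (MultilinearMap.restrictScalars A (ιMulti B p).toMultilinearMap).compLinearMap
    (fun _ => TensorProduct.mk A B M 1)
  map_eq_zero_of_eq' := fun v i j h hij => by
    apply (ιMulti B p).map_eq_zero_of_eq _ _ hij
    simp only [h]

lemma fAlt_apply (p : ℕ) (m : Fin p → M) :
    fAlt A B M p m = ιMulti B p (fun i => (1 : B) ⊗ₜ[A] m i) := rfl

/-- the forward map. -/
noncomputable def f (p : ℕ) : B ⊗[A] ⋀[A]^p M →ₗ[B] ⋀[B]^p (B ⊗[A] M) :=
  LinearMap.liftBaseChange B (alternatingMapLinearEquiv (fAlt A B M p))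

lemma f_tmul_ιMulti (p : ℕ) (b : B) (m : Fin p → M) :
    f A B M p (b ⊗ₜ ιMulti A p m) = b • ιMulti B p (fun i => (1 : B) ⊗ₜ[A] m i) := by
  unfold f
  rw [LinearMap.liftBaseChange_tmul, alternatingMapLinearEquiv_apply_ιMulti, fAlt_apply]

lemma g_f (p : ℕ) (x : B ⊗[A] ⋀[A]^p M) : g A B M p (f A B M p x) = x := by
  induction x using TensorProduct.induction_on with
  | zero => simp
  | add x y hx hy => rw [map_add, map_add, hx, hy]
  | tmul b n =>
    have hn : n ∈ Submodule.span A (Set.range (ιMulti A p (M := M))) := by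
      rw [ιMulti_span]; trivial
    revert b
    induction hn using Submodule.span_induction with
    | mem y hy =>
      intro b
      obtain ⟨m, rfl⟩ := hy
      rw [f_tmul_ιMulti, map_smul, g_ιMulti_one_tmul, TensorProduct.smul_tmul', smul_eq_mul,
        mul_one]
    | zero => intro b; simp
    | add y z _ _ hy hz => intro b; rw [TensorProduct.tmul_add, map_add, map_add, hy, hz]
    | smul c y _ hy =>
      intro b
      rw [← TensorProduct.smul_tmul]
      exact hy (c • b)

lemma span_one_tmul : Submodule.span B (Set.range fun m : M => (1 : B) ⊗ₜ[A] m) = ⊤ := by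
  rw [eq_top_iff]
  rintro x -
  induction x using TensorProduct.induction_on with
  | zero => exact zero_mem _
  | add x y hx hy => exact add_mem hx hy
  | tmul b m =>
    have : b ⊗ₜ[A] m = b • ((1 : B) ⊗ₜ[A] m) := by
      rw [TensorProduct.smul_tmul', smul_eq_mul, mul_one]
    rw [this]
    exact Submodule.smul_mem _ _ (Submodule.subset_span ⟨m, rfl⟩)

lemma f_surjective (p : ℕ) : Function.Surjective (f A B M p) := by
  rw [← LinearMap.range_eq_top, eq_top_iff, ← ιMulti_span_of_span B p (B ⊗[A] M) (span_one_tmul A B M),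
    Submodule.span_le]
  rintro _ ⟨a, ha, rfl⟩
  have : ∀ i, ∃ m : M, (1 : B) ⊗ₜ[A] m = a i := fun i => ha ⟨i, rfl⟩
  choose m hm using this
  refine ⟨(1 : B) ⊗ₜ ιMulti A p m, ?_⟩
  rw [f_tmul_ιMulti, one_smul]
  congr 1
  funext i
  exact hm i

/-- base change of exterior powers. -/
noncomputable def equiv (p : ℕ) : B ⊗[A] ⋀[A]^p M ≃ₗ[B] ⋀[B]^p (B ⊗[A] M) :=
  LinearEquiv.ofBijective (f A B M p)
    ⟨Function.LeftInverse.injective (g_f A B M p), f_surjective A B M p⟩

lemma equiv_tmul_ιMulti (p : ℕ) (b : B) (m : Fin p → M) :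
    equiv A B M p (b ⊗ₜ ιMulti A p m) = b • ιMulti B p (fun i => (1 : B) ⊗ₜ[A] m i) :=
  f_tmul_ιMulti A B M p b m

/-- functoriality of exterior powers for linear equivalences. -/
noncomputable def mapEquiv {A M N : Type*} [CommRing A] [AddCommGroup M] [Module A M]
    [AddCommGroup N] [Module A N] (e : M ≃ₗ[A] N) (p : ℕ) : ⋀[A]^p M ≃ₗ[A] ⋀[A]^p N :=
  LinearEquiv.ofLinear (exteriorPower.map p e.toLinearMap) (exteriorPower.map p e.symm.toLinearMap)
    (by rw [← exteriorPower.map_comp]; simp [exteriorPower.map_id])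
    (by rw [← exteriorPower.map_comp]; simp [exteriorPower.map_id])

lemma mapEquiv_ιMulti {A M N : Type*} [CommRing A] [AddCommGroup M] [Module A M]
    [AddCommGroup N] [Module A N] (e : M ≃ₗ[A] N) (p : ℕ) (m : Fin p → M) :
    mapEquiv e p (ιMulti A p m) = ιMulti A p (fun i => e (m i)) := by
  unfold mapEquiv
  rw [LinearEquiv.ofLinear_apply, exteriorPower.map_apply_ιMulti]
  rfl

end Groth.Agent.Lib.Helper24.ExtPowBC
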