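import Mathlib.LinearAlgebra.ExteriorPower.Basic

/-! Kernel of `exteriorPower.map p π` for a surjective linear map `π`. -/

set_option autoImplicit false

namespace Groth.Agent.Lib.Helper24.ExtPowKer

open exteriorPower

variable {A M M' : Type*} [CommRing A] [AddCommGroup M] [Module A M] [AddCommGroup M'] [Module A M']
  (π : M →ₗ[A] M')

/-- the submodule spanned by wedges with one factor in `ker π`. -/
def N (p : ℕ) : Submodule A ↥(⋀[A]^p M) :=
  Submodule.span A {x | ∃ v : Fin p → M, (∃ i, π (v i) = 0) ∧ x = ιMulti A p v}

lemma ιMulti_mem_N {p : ℕ} (v : Fin p → M) (i : Fin p) (h : π (v i) = 0) :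
    ιMulti A p v ∈ N π p :=
  Submodule.subset_span ⟨v, ⟨i, h⟩, rfl⟩

lemma N_le_ker (p : ℕ) : N π p ≤ LinearMap.ker (exteriorPower.map p π) := by
  unfold N
  rw [Submodule.span_le]
  rintro _ ⟨v, ⟨i, hi⟩, rfl⟩
  change exteriorPower.map p π (ιMulti A p v) = 0
  rw [exteriorPower.map_apply_ιMulti]
  exact (ιMulti A p).map_coord_zero i hi

lemma update_sub_mem {p : ℕ} [DecidableEq (Fin p)] (w : Fin p → M) (i : Fin p) (x y : M)
    (h : π x = π y) :
    ιMulti A p (Function.update w i x) - ιMulti A p (Function.update w i y) ∈ N π p := by
  rw [← AlternatingMap.map_update_sub]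
  apply ιMulti_mem_N π _ i
  rw [Function.update_self, map_sub, h, sub_self]

lemma congr_mem {p : ℕ} (v v' : Fin p → M) (h : ∀ i, π (v i) = π (v' i)) :
    ιMulti A p v' - ιMulti A p v ∈ N π p := by
  classical
  have key : ∀ s : Finset (Fin p), ιMulti A p (s.piecewise v' v) - ιMulti A p v ∈ N π p := by
    intro s
    induction s using Finset.induction_on with
    | empty => simp
    | insert a s ha ih =>
      rw [Finset.piecewise_insert]
      have h1 : Function.update (s.piecewise v' v) a (v a) = s.piecewise v' v := by
        rw [Function.update_eq_self_iff, Finset.piecewise_eq_of_notMem _ _ _ ha]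
      have h2 := update_sub_mem π (s.piecewise v' v) a (v' a) (v a) (h a).symm
      rw [h1] at h2
      have := add_mem h2 ih
      rwa [sub_add_sub_cancel] at this
  have := key Finset.univ
  rwa [Finset.piecewise_univ] at this

variable (hπ : Function.Surjective π)

/-- the alternating map `M'^p → ⋀^p M / N` via a set-theoretic section. -/
noncomputable def gAlt (p : ℕ) : M' [⋀^Fin p]→ₗ[A] (↥(⋀[A]^p M) ⧸ N π p) where
  toFun w := (N π p).mkQ (ιMulti A p (fun i => Function.surjInv hπ (w i)))
  map_update_add' := by
    intro _ w i x y
    rw [← map_add, ← sub_eq_zero, ← map_sub, Submodule.mkQ_apply, Submodule.Quotient.mk_eq_zero]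
    have e : ∀ z, (fun j => Function.surjInv hπ (Function.update w i z j)) =
        Function.update (fun j => Function.surjInv hπ (w j)) i (Function.surjInv hπ z) := by
      intro z
      funext j
      by_cases hj : j = i
      · subst hj; simp
      · simp [Function.update_of_ne hj]
    rw [e, e, e, ← AlternatingMap.map_update_add]
    apply update_sub_mem
    rw [map_add, Function.surjInv_eq hπ, Function.surjInv_eq hπ, Function.surjInv_eq hπ]
  map_update_smul' := by
    intro _ w i c x
    rw [← map_smul, ← sub_eq_zero, ← map_sub, Submodule.mkQ_apply, Submodule.Quotient.mk_eq_zero]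
    have e : ∀ z, (fun j => Function.surjInv hπ (Function.update w i z j)) =
        Function.update (fun j => Function.surjInv hπ (w j)) i (Function.surjInv hπ z) := by
      intro z
      funext j
      by_cases hj : j = i
      · subst hj; simp
      · simp [Function.update_of_ne hj]
    rw [e, e, ← AlternatingMap.map_update_smul]
    apply update_sub_mem
    rw [map_smul, Function.surjInv_eq hπ, Function.surjInv_eq hπ]
  map_eq_zero_of_eq' := by
    intro w i j hij hne
    have : ιMulti A p (fun i => Function.surjInv hπ (w i)) = 0 :=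
      (ιMulti A p).map_eq_zero_of_eq _ (by simp only [hij]) hne
    simp only [this, map_zero]

lemma gAlt_apply (p : ℕ) (w : Fin p → M') :
    gAlt π hπ p w = (N π p).mkQ (ιMulti A p (fun i => Function.surjInv hπ (w i))) := rfl

include hπ in
theorem ker_map_eq (p : ℕ) : LinearMap.ker (exteriorPower.map p π) = N π p := by
  apply le_antisymm _ (N_le_ker π p)
  have hcomp : (alternatingMapLinearEquiv (gAlt π hπ p)) ∘ₗ (exteriorPower.map p π) = (N π p).mkQ := by
    apply exteriorPower.linearMap_ext
    ext v
    simp only [LinearMap.compAlternatingMap_apply, LinearMap.comp_apply,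
      exteriorPower.map_apply_ιMulti, alternatingMapLinearEquiv_apply_ιMulti, gAlt_apply]
    rw [← sub_eq_zero, ← map_sub, Submodule.mkQ_apply, Submodule.Quotient.mk_eq_zero]
    apply congr_mem
    intro i
    simp only [Function.comp_apply]
    rw [Function.surjInv_eq hπ]
  intro x hx
  have := LinearMap.congr_fun hcomp x
  rw [LinearMap.comp_apply, LinearMap.mem_ker.mp hx, map_zero] at this
  rw [← Submodule.Quotient.mk_eq_zero, ← Submodule.mkQ_apply, ← this]

end Groth.Agent.Lib.Helper24.ExtPowKer
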