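import Groth.Agent.Lib.Helper24.ExtPow.BaseChange
import Groth.Agent.Lib.Helper24.DeRhamLemmas
import Mathlib.RingTheory.Kaehler.TensorProduct

/-! de Rham complex commutes with base change (degreewise). -/

set_option autoImplicit false

namespace Groth.Agent.Lib.Helper24.DeRhamBC

universe u

open TensorProduct exteriorPower DeRham

variable (R S A B : Type u) [CommRing R] [CommRing S] [CommRing A] [CommRing B]
    [Algebra R S] [Algebra R A] [Algebra R B] [Algebra A B] [Algebra S B]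
    [IsScalarTower R A B] [IsScalarTower R S B] [Algebra.IsPushout R S A B]

/-- The composite bijection. -/
noncomputable def F (p : ℕ) : S ⊗[R] ↥(⋀[A]^p (Ω[A⁄R])) ≃+ ↥(⋀[B]^p (Ω[B⁄S])) :=
  ((Algebra.IsPushout.cancelBaseChange R S A B ↥(⋀[A]^p (Ω[A⁄R]))).symm.toAddEquiv.trans
    (ExtPowBC.equiv A B (Ω[A⁄R]) p).toAddEquiv).trans
      (ExtPowBC.mapEquiv (KaehlerDifferential.tensorKaehlerEquiv R S A B) p).toAddEquiv

lemma F_apply (p : ℕ) (x : S ⊗[R] ↥(⋀[A]^p (Ω[A⁄R]))) :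
    F R S A B p x = ExtPowBC.mapEquiv (KaehlerDifferential.tensorKaehlerEquiv R S A B) p
      (ExtPowBC.equiv A B (Ω[A⁄R]) p
        ((Algebra.IsPushout.cancelBaseChange R S A B ↥(⋀[A]^p (Ω[A⁄R]))).symm x)) := rfl

lemma F_tmul_gen (p : ℕ) (s : S) (b₀ : A) (b : Fin p → A) :
    F R S A B p (s ⊗ₜ gen (KaehlerDifferential.D R A) p b₀ b) =
      s • gen (KaehlerDifferential.D S B) p (algebraMap A B b₀) (fun i => algebraMap A B (b i)) := by
  unfold gen
  rw [F_apply, Algebra.IsPushout.cancelBaseChange_symm_tmul, ← TensorProduct.smul_tmul,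
    ExtPowBC.equiv_tmul_ιMulti, map_smul, ExtPowBC.mapEquiv_ιMulti]
  have : (fun i => (KaehlerDifferential.tensorKaehlerEquiv R S A B)
      ((1 : B) ⊗ₜ[A] (KaehlerDifferential.D R A) (b i))) =
      fun i => KaehlerDifferential.D S B (algebraMap A B (b i)) := by
    funext i
    simp
  rw [this, Algebra.smul_def b₀, mul_smul, smul_comm (algebraMap A B b₀) (algebraMap S B s),
    algebraMap_smul B s]

theorem main (ψ : ∀ p : ℕ, ↥(⋀[A]^p (Ω[A⁄R])) →+ ↥(⋀[B]^p (Ω[B⁄S])))
    (hψ : DeRham.IsCxMap (KaehlerDifferential.D R A) (KaehlerDifferential.D S B) (algebraMap A B) ψ)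
    (p : ℕ) (Φ : S ⊗[R] ↥(⋀[A]^p (Ω[A⁄R])) →+ ↥(⋀[B]^p (Ω[B⁄S])))
    (hΦ : ∀ (s : S) (x : ↥(⋀[A]^p (Ω[A⁄R]))), Φ (s ⊗ₜ[R] x) = s • ψ p x) :
    Function.Bijective Φ := by
  have key : ∀ x, Φ x = F R S A B p x := by
    intro x
    induction x using TensorProduct.induction_on with
    | zero => simp
    | add x y hx hy => rw [map_add, map_add, hx, hy]
    | tmul s x =>
      induction x using DeRhamL.kaehler_induction with
      | hgen b₀ b => rw [hΦ, hψ, F_tmul_gen]
      | h0 => simp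
      | hadd x y hx hy => rw [TensorProduct.tmul_add, map_add, map_add, hx, hy]
  have : ⇑Φ = ⇑(F R S A B p) := funext key
  rw [this]
  exact (F R S A B p).bijective

end Groth.Agent.Lib.Helper24.DeRhamBC
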