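import Groth.Agent.Lib.Helper24.ExtPow.DeRhamBC
import Mathlib.RingTheory.Flat.Basic
import Mathlib.Algebra.Exact.Basic

/-! closed / exact forms under flat base change (here: field extension). -/

set_option autoImplicit false

namespace Groth.Agent.Lib.Helper24.DeRhamBCField

universe u

open TensorProduct exteriorPower DeRham

variable (k K : Type u) [CommRing k] [CommRing K] [Algebra k K] [Module.Flat k K]
    (A A' : Type u) [CommRing A] [CommRing A'] [Algebra k A]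
    [Algebra A A'] [Algebra k A'] [IsScalarTower k A A'] [Algebra K A'] [IsScalarTower k K A']
    [Algebra.IsPushout k K A A']
    (d : ∀ p : ℕ, ↥(⋀[A]^p (Ω[A⁄k])) →ₗ[k] ↥(⋀[A]^(p + 1) (Ω[A⁄k])))
    (d' : ∀ p : ℕ, ↥(⋀[A']^p (Ω[A'⁄K])) →ₗ[K] ↥(⋀[A']^(p + 1) (Ω[A'⁄K])))
    (ψ : ∀ p : ℕ, ↥(⋀[A]^p (Ω[A⁄k])) →+ ↥(⋀[A']^p (Ω[A'⁄K])))
    (hψ : DeRham.IsCxMap (KaehlerDifferential.D k A) (KaehlerDifferential.D K A') (algebraMap A A') ψ)
    (hcomm : ∀ (p : ℕ) (x : ↥(⋀[A]^p (Ω[A⁄k]))), ψ (p + 1) (d p x) = d' p (ψ p x))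

include hψ in
omit [Module.Flat k K] in
lemma F_tmul (p : ℕ) (s : K) (x : ↥(⋀[A]^p (Ω[A⁄k]))) :
    DeRhamBC.F k K A A' p (s ⊗ₜ x) = s • ψ p x := by
  induction x using DeRhamL.kaehler_induction with
  | hgen b₀ b => rw [hψ, DeRhamBC.F_tmul_gen]
  | h0 => simp
  | hadd x y hx hy => rw [TensorProduct.tmul_add, map_add, map_add, hx, hy, smul_add]

include hψ hcomm in
omit [Module.Flat k K] in
lemma d'_F (p : ℕ) (x : K ⊗[k] ↥(⋀[A]^p (Ω[A⁄k]))) :
    d' p (DeRhamBC.F k K A A' p x) = DeRhamBC.F k K A A' (p + 1) ((d p).lTensor K x) := by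
  induction x using TensorProduct.induction_on with
  | zero => simp
  | add x y hx hy => rw [map_add, map_add, map_add, map_add, hx, hy]
  | tmul s z =>
    rw [LinearMap.lTensor_tmul, F_tmul k K A A' ψ hψ, F_tmul k K A A' ψ hψ, map_smul, hcomm]

include hψ hcomm in
theorem cocycles_eq (p : ℕ) :
    Submodule.span K (ψ p '' (DeRham.cocycles d p : Set ↥(⋀[A]^p (Ω[A⁄k])))) =
      DeRham.cocycles d' p := by
  apply le_antisymm
  · rw [Submodule.span_le]
    rintro _ ⟨z, hz, rfl⟩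
    have hz' : d p z = 0 := hz
    change d' p (ψ p z) = 0
    rw [← hcomm, hz', map_zero]
  · intro y hy
    have hy' : d' p y = 0 := hy
    obtain ⟨x, rfl⟩ := (DeRhamBC.F k K A A' p).surjective y
    rw [d'_F k K A A' d d' ψ hψ hcomm] at hy'
    have hx : (d p).lTensor K x = 0 := by
      apply (DeRhamBC.F k K A A' (p + 1)).injective
      rw [hy', map_zero]
    have hex := @Module.Flat.lTensor_exact k K _ _ _ _ ↥(LinearMap.ker (d p)) ↥(⋀[A]^p (Ω[A⁄k]))
      ↥(⋀[A]^(p + 1) (Ω[A⁄k])) _ _ _ _ _ _ (LinearMap.ker (d p)).subtype (d p)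
      (LinearMap.exact_subtype_ker_map (d p))
    obtain ⟨w, rfl⟩ := (hex x).mp hx
    clear hx hy' hy
    induction w using TensorProduct.induction_on with
    | zero => simp
    | add w₁ w₂ h₁ h₂ =>
      rw [map_add, map_add]
      exact add_mem h₁ h₂
    | tmul s z =>
      rw [LinearMap.lTensor_tmul, F_tmul k K A A' ψ hψ]
      exact Submodule.smul_mem _ _ (Submodule.subset_span ⟨z.1, z.2, rfl⟩)

include hψ hcomm in
omit [Module.Flat k K] in
theorem coboundaries_eq (p : ℕ) :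
    Submodule.span K (ψ p '' (DeRham.coboundaries d p : Set ↥(⋀[A]^p (Ω[A⁄k])))) =
      DeRham.coboundaries d' p := by
  cases p with
  | zero =>
    change Submodule.span K (ψ 0 '' ((⊥ : Submodule k ↥(⋀[A]^0 (Ω[A⁄k]))) : Set ↥(⋀[A]^0 (Ω[A⁄k])))) = ⊥
    rw [Submodule.span_eq_bot]
    rintro _ ⟨z, hz, rfl⟩
    have : z = 0 := hz
    rw [this, map_zero]
  | succ q =>
    change Submodule.span K (ψ (q + 1) '' (LinearMap.range (d q) : Set ↥(⋀[A]^(q + 1) (Ω[A⁄k])))) =
      LinearMap.range (d' q)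
    apply le_antisymm
    · rw [Submodule.span_le]
      rintro _ ⟨_, ⟨z, rfl⟩, rfl⟩
      exact ⟨ψ q z, (hcomm q z).symm⟩
    · rintro _ ⟨y, rfl⟩
      obtain ⟨x, rfl⟩ := (DeRhamBC.F k K A A' q).surjective y
      induction x using TensorProduct.induction_on with
      | zero => simp
      | add x₁ x₂ h₁ h₂ =>
        rw [map_add, map_add]
        exact add_mem h₁ h₂
      | tmul s z =>
        rw [F_tmul k K A A' ψ hψ, map_smul, ← hcomm]
        exact Submodule.smul_mem _ _ (Submodule.subset_span ⟨d q z, ⟨z, rfl⟩, rfl⟩)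

end Groth.Agent.Lib.Helper24.DeRhamBCField
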