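import Groth.Agent.Lib.Helper24.DeRhamLemmas
import Groth.Prelude.Def_DiffOp

/-! de Rham differential is a differential operator of order ≤ 1. -/

set_option autoImplicit false

namespace Groth.Agent.Lib.Helper24.DiffOpOne

universe u

open exteriorPower DeRham

variable (R A : Type u) [CommRing R] [CommRing A] [Algebra R A]
    (d : ∀ p : ℕ, ↥(⋀[A]^p (Ω[A⁄R])) →ₗ[R] ↥(⋀[A]^(p + 1) (Ω[A⁄R])))
    (hd : DeRham.IsDiff (KaehlerDifferential.D R A) d)

lemma smul_gen (p : ℕ) (c b₀ : A) (b : Fin p → A) :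
    c • gen (KaehlerDifferential.D R A) p b₀ b = gen (KaehlerDifferential.D R A) p (c * b₀) b := by
  unfold gen
  rw [smul_smul]

include hd in
lemma comm_gen (p : ℕ) (a b₀ : A) (b : Fin p → A) :
    d p (a • gen (KaehlerDifferential.D R A) p b₀ b) - a • d p (gen (KaehlerDifferential.D R A) p b₀ b) =
      b₀ • ιMulti A (p + 1) (Fin.cons (KaehlerDifferential.D R A a)
        (fun i => KaehlerDifferential.D R A (b i))) := by
  rw [smul_gen, hd.1, hd.1, Derivation.leibniz]
  have h1 := (ιMulti A (p + 1) (M := Ω[A⁄R])).toMultilinearMap.cons_add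
    (fun i => KaehlerDifferential.D R A (b i)) (a • KaehlerDifferential.D R A b₀)
    (b₀ • KaehlerDifferential.D R A a)
  have h2 := (ιMulti A (p + 1) (M := Ω[A⁄R])).toMultilinearMap.cons_smul
    (fun i => KaehlerDifferential.D R A (b i)) a (KaehlerDifferential.D R A b₀)
  have h3 := (ιMulti A (p + 1) (M := Ω[A⁄R])).toMultilinearMap.cons_smul
    (fun i => KaehlerDifferential.D R A (b i)) b₀ (KaehlerDifferential.D R A a)
  simp only [AlternatingMap.coe_multilinearMap] at h1 h2 h3
  rw [h1, h2, h3, add_sub_cancel_left]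

include hd in
theorem main (p : ℕ) :
    Diff16.IsDiffOpLE R A ↥(⋀[A]^p (Ω[A⁄R])) ↥(⋀[A]^(p + 1) (Ω[A⁄R])) 1 (d p) := by
  intro a c ω
  have hc : ∀ (x : ↥(⋀[A]^p (Ω[A⁄R]))), Diff16.commutator R A _ _ (d p) a x = d p (a • x) - a • d p x := by
    intro x
    rfl
  rw [hc, hc]
  induction ω using DeRhamL.kaehler_induction with
  | hgen b₀ b =>
    rw [smul_gen R A p c, comm_gen R A d hd, comm_gen R A d hd, mul_smul]
  | h0 => simp
  | hadd x y hx hy =>
    simp only [smul_add, map_add]
    rw [add_sub_add_comm, hx, hy, ← smul_add, add_sub_add_comm]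

end Groth.Agent.Lib.Helper24.DiffOpOne
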