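import Groth.Agent.Lib.Helper4.LaurentKaehler
import Groth.Agent.Lib.Helper24.DeRhamLemmas

/-! de Rham cohomology of `G_m` (ring level). -/

set_option autoImplicit false

namespace Groth.Agent.Lib.Helper24.LaurentDR

universe u

open exteriorPower DeRham LaurentPolynomial
open Groth.Agent.Lib.Helper4.LaurentKaehler

variable (k : Type u) [Field k]

local notation "L" => LaurentPolynomial k
local notation "DD" => KaehlerDifferential.D k (LaurentPolynomial k)

/-- `η = T⁻¹ dT`. -/
noncomputable def η : Ω[L⁄k] := (T (-1) : L) • DD (T 1)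

/-- the Euler linear form `Ω → L`. -/
noncomputable def ε : Ω[L⁄k] →ₗ[L] L := (eulerDer k).liftKaehlerDifferential

lemma ε_D (f : L) : ε k (DD f) = eulerLin k f :=
  (eulerDer k).liftKaehlerDifferential_comp_D f

lemma eulerLin_T (n : ℤ) : eulerLin k (T n : L) = (n : k) • (T n : L) := eulerLin_bas k n

lemma eulerLin_C_mul_T (n : ℤ) (a : k) : eulerLin k (C a * T n : L) = C ((n : k) * a) * T n := by
  rw [← single_eq_C_mul_T, ← single_eq_C_mul_T]
  have h1 : ∀ b : k, (AddMonoidAlgebra.single n b : L) = b • bas k n := by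
    intro b
    rw [bas_apply, AddMonoidAlgebra.smul_single, smul_eq_mul, mul_one]
  have h2 := h1 ((n : k) * a)
  have h1 := h1 a
  rw [h1, h2, map_smul, eulerLin_bas, smul_smul, mul_comm]

lemma ε_η : ε k (η k) = 1 := by
  unfold η
  rw [map_smul, ε_D, eulerLin_T, smul_eq_mul, Int.cast_one, one_smul, ← T_add]
  rfl

/-- the set of `f` with `D f = δ f • η`. -/
def Good (f : L) : Prop := DD f = eulerLin k f • η k

lemma good_mul {f g : L} (hf : Good k f) (hg : Good k g) : Good k (f * g) := by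
  unfold Good at *
  rw [Derivation.leibniz, hf, hg, eulerLin_leibniz, add_smul, smul_smul, smul_smul, smul_eq_mul,
    smul_eq_mul]

lemma good_T_one : Good k (T 1 : L) := by
  unfold Good η
  rw [eulerLin_T, Int.cast_one, one_smul, smul_smul, ← T_add]
  simp

lemma good_T_neg_one : Good k (T (-1) : L) := by
  unfold Good η
  have h : (T (-1) : L) * T 1 = 1 := by rw [← T_add]; simp
  rw [Derivation.leibniz_of_mul_eq_one _ h, eulerLin_T, smul_smul]
  congr 1
  simp [pow_two]

lemma good_one : Good k (1 : L) := by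
  unfold Good
  have : (1 : L) = T 0 := rfl
  rw [Derivation.map_one_eq_zero, this, eulerLin_T]
  simp

lemma good_T_nat (n : ℕ) : Good k (T (n : ℤ) : L) ∧ Good k (T (-(n : ℤ)) : L) := by
  induction n with
  | zero => simpa using good_one k
  | succ n ih =>
    constructor
    · rw [Nat.cast_succ, T_add]
      exact good_mul k ih.1 (good_T_one k)
    · rw [Nat.cast_succ, neg_add, T_add]
      exact good_mul k ih.2 (good_T_neg_one k)

lemma good_T (n : ℤ) : Good k (T n : L) := by
  obtain ⟨m, rfl | rfl⟩ := Int.eq_nat_or_neg n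
  · exact (good_T_nat k m).1
  · exact (good_T_nat k m).2

lemma good_C (a : k) : Good k (C a : L) := by
  unfold Good
  have h1 : (C a : L) = algebraMap k L a := rfl
  rw [h1, Derivation.map_algebraMap]
  have h2 : algebraMap k L a = C a * T 0 := by rw [T_zero, mul_one]; rfl
  rw [h2, eulerLin_C_mul_T]
  simp

lemma good_all (f : L) : Good k f := by
  induction f using LaurentPolynomial.induction_on' with
  | add p q hp hq =>
    unfold Good at *
    rw [map_add, map_add, hp, hq, add_smul]
  | C_mul_T n a => exact good_mul k (good_C k a) (good_T k n)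

lemma D_eq (f : L) : DD f = eulerLin k f • η k := good_all k f

lemma exists_smul_η (ω : Ω[L⁄k]) : ∃ g : L, ω = g • η k := by
  have hω : ω ∈ Submodule.span L (Set.range DD) := by
    rw [KaehlerDifferential.span_range_derivation]; trivial
  induction hω using Submodule.span_induction with
  | mem y hy =>
    obtain ⟨f, rfl⟩ := hy
    exact ⟨_, D_eq k f⟩
  | zero => exact ⟨0, by simp⟩
  | add y z _ _ hy hz =>
    obtain ⟨g₁, rfl⟩ := hy
    obtain ⟨g₂, rfl⟩ := hz
    exact ⟨g₁ + g₂, (add_smul _ _ _).symm⟩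
  | smul c y _ hy =>
    obtain ⟨g, rfl⟩ := hy
    exact ⟨c * g, (mul_smul _ _ _).symm⟩

lemma ε_injective : Function.Injective (ε k) := by
  rw [injective_iff_map_eq_zero]
  intro ω hω
  obtain ⟨g, rfl⟩ := exists_smul_η k ω
  rw [map_smul, ε_η, smul_eq_mul, mul_one] at hω
  rw [hω, zero_smul]

lemma wedge_zero (n : ℕ) (hn : 2 ≤ n) (x : ↥(⋀[L]^n (Ω[L⁄k]))) : x = 0 := by
  have hx : x ∈ Submodule.span L (Set.range (ιMulti L n (M := Ω[L⁄k]))) := by
    rw [ιMulti_span]; trivial
  induction hx using Submodule.span_induction with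
  | mem y hy =>
    obtain ⟨v, rfl⟩ := hy
    obtain ⟨g₀, h₀⟩ := exists_smul_η k (v ⟨0, by omega⟩)
    obtain ⟨g₁, h₁⟩ := exists_smul_η k (v ⟨1, by omega⟩)
    have hne : (⟨0, by omega⟩ : Fin n) ≠ ⟨1, by omega⟩ := by
      intro h
      have := congrArg Fin.val h
      simp at this
    have hv : v = Function.update (Function.update v ⟨0, by omega⟩ (g₀ • η k)) ⟨1, by omega⟩
        (g₁ • η k) := by
      funext j
      by_cases hj1 : j = ⟨1, by omega⟩
      · subst hj1
        rw [Function.update_self, h₁]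
      · rw [Function.update_of_ne hj1]
        by_cases hj0 : j = ⟨0, by omega⟩
        · subst hj0
          rw [Function.update_self, h₀]
        · rw [Function.update_of_ne hj0]
    rw [hv, AlternatingMap.map_update_smul]
    have : (ιMulti L n) (Function.update (Function.update v ⟨0, by omega⟩ (g₀ • η k))
        ⟨1, by omega⟩ (η k)) = 0 := by
      rw [Function.update_comm hne, AlternatingMap.map_update_smul]
      have h0 : (ιMulti L n) (Function.update (Function.update v ⟨1, by omega⟩ (η k))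
          ⟨0, by omega⟩ (η k)) = 0 := by
        apply (ιMulti L n).map_eq_zero_of_eq _ _ hne
        rw [Function.update_self, Function.update_of_ne hne.symm, Function.update_self]
      rw [h0, smul_zero]
    rw [this, smul_zero]
  | zero => rfl
  | add y z _ _ hy hz => rw [hy, hz, add_zero]
  | smul c y _ hy => rw [hy, smul_zero]

/-- `⋀^1 Ω → L`. -/
noncomputable def θ : ↥(⋀[L]^1 (Ω[L⁄k])) →ₗ[L] L :=
  (ε k) ∘ₗ (exteriorPower.oneEquiv L (Ω[L⁄k])).toLinearMap

lemma θ_ιMulti (v : Fin 1 → Ω[L⁄k]) : θ k (ιMulti L 1 v) = ε k (v 0) := by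
  unfold θ
  rw [LinearMap.comp_apply, LinearEquiv.coe_coe, exteriorPower.oneEquiv_ιMulti]

lemma θ_injective : Function.Injective (θ k) := by
  unfold θ
  rw [LinearMap.coe_comp]
  exact (ε_injective k).comp (exteriorPower.oneEquiv L (Ω[L⁄k])).injective

/-- `ω₀ = T⁻¹ dT` as a `1`-form. -/
noncomputable def ω₀ : ↥(⋀[L]^1 (Ω[L⁄k])) := gen DD 1 (T (-1)) (fun _ => T 1)

lemma θ_ω₀ : θ k (ω₀ k) = 1 := by
  unfold ω₀ gen
  rw [map_smul, θ_ιMulti, ε_D, eulerLin_T, smul_eq_mul, Int.cast_one, one_smul, ← T_add]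
  rfl

lemma coeff_zero_eulerLin (f : L) : (bas k).repr (eulerLin k f) 0 = 0 := by
  rw [coord_eulerLin, Int.cast_zero, zero_mul]

lemma coeff_zero_smul_one (c : k) : (bas k).repr (c • (1 : L)) 0 = c := by
  have : (1 : L) = bas k 0 := rfl
  rw [this, map_smul, Module.Basis.repr_self]
  simp

lemma exists_eulerLin_add [CharZero k] (g : L) : ∃ (f : L) (c : k), g = eulerLin k f + c • (1 : L) := by
  induction g using LaurentPolynomial.induction_on' with
  | add p q hp hq =>
    obtain ⟨f₁, c₁, rfl⟩ := hp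
    obtain ⟨f₂, c₂, rfl⟩ := hq
    refine ⟨f₁ + f₂, c₁ + c₂, ?_⟩
    rw [map_add, add_smul]
    abel
  | C_mul_T n a =>
    by_cases hn : n = 0
    · subst hn
      refine ⟨0, a, ?_⟩
      rw [map_zero, zero_add, T_zero, mul_one]
      exact (Algebra.algebraMap_eq_smul_one a)
    · refine ⟨C (a / (n : k)) * T n, 0, ?_⟩
      rw [eulerLin_C_mul_T, zero_smul, add_zero, mul_div_cancel₀]
      exact_mod_cast hn

variable (d : ∀ p : ℕ, ↥(⋀[LaurentPolynomial k]^p (Ω[LaurentPolynomial k⁄k])) →ₗ[k]
      ↥(⋀[LaurentPolynomial k]^(p + 1) (Ω[LaurentPolynomial k⁄k])))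
    (hd : DeRham.IsDiff (KaehlerDifferential.D k (LaurentPolynomial k)) d)

include hd in
lemma θ_d0_gen (f : L) (b : Fin 0 → L) : θ k (d 0 (gen DD 0 f b)) = eulerLin k f := by
  rw [hd.1, θ_ιMulti]
  exact ε_D k f

include hd in
lemma θ_d0 (x : ↥(⋀[L]^0 (Ω[L⁄k]))) : ∃ f : L, θ k (d 0 x) = eulerLin k f := by
  induction x using DeRhamL.kaehler_induction with
  | hgen b₀ b => exact ⟨b₀, θ_d0_gen k d hd b₀ b⟩
  | h0 => exact ⟨0, by simp⟩
  | hadd x y hx hy =>
    obtain ⟨f₁, h₁⟩ := hx
    obtain ⟨f₂, h₂⟩ := hy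
    exact ⟨f₁ + f₂, by rw [map_add, map_add, h₁, h₂, map_add]⟩

include hd in
theorem main [CharZero k] :
    DeRham.cocycles d 1 = ⊤ ∧
    IsCompl (DeRham.coboundaries d 1) (Submodule.span k {ω₀ k}) ∧
    ω₀ k ∉ DeRham.coboundaries d 1 ∧
    ∀ i : ℕ, DeRham.cocycles d (i + 2) ≤ DeRham.coboundaries d (i + 2) := by
  have hdisj : ∀ x, x ∈ DeRham.coboundaries d 1 → x ∈ Submodule.span k {ω₀ k} → x = 0 := by
    intro x hx1 hx2
    have hx1' : x ∈ LinearMap.range (d 0) := hx1
    obtain ⟨y, rfl⟩ := hx1'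
    obtain ⟨c, hc⟩ := Submodule.mem_span_singleton.mp hx2
    obtain ⟨f, hf⟩ := θ_d0 k d hd y
    have h1 : θ k (c • ω₀ k) = c • (1 : L) := by
      rw [← θ_ω₀ k, ← algebraMap_smul L c (ω₀ k), map_smul, algebraMap_smul]
    rw [hc, hf] at h1
    have h2 := congrArg (fun z => (bas k).repr z 0) h1
    simp only [coeff_zero_eulerLin, coeff_zero_smul_one] at h2
    rw [← hc, ← h2, zero_smul]
  refine ⟨?_, ?_, ?_, ?_⟩
  · rw [eq_top_iff]
    intro x _
    exact wedge_zero k (1 + 1) (by norm_num) (d 1 x)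
  · rw [isCompl_iff]
    constructor
    · rw [Submodule.disjoint_def]
      exact hdisj
    · rw [codisjoint_iff, eq_top_iff]
      intro x _
      obtain ⟨f, c, hfc⟩ := exists_eulerLin_add k (θ k x)
      have hx : x = d 0 (gen DD 0 f Fin.elim0) + c • ω₀ k := by
        apply θ_injective k
        rw [map_add, θ_d0_gen k d hd, hfc, ← θ_ω₀ k, ← algebraMap_smul L c (ω₀ k), map_smul,
          algebraMap_smul]
      rw [hx]
      apply Submodule.add_mem_sup
      · exact ⟨_, rfl⟩
      · exact Submodule.smul_mem _ _ (Submodule.mem_span_singleton_self _)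
  · intro h
    have h0 := hdisj _ h (Submodule.mem_span_singleton_self _)
    have := θ_ω₀ k
    rw [h0, map_zero] at this
    exact zero_ne_one this
  · intro i x _
    rw [wedge_zero k (i + 2) (by omega) x]
    exact zero_mem _

end Groth.Agent.Lib.Helper24.LaurentDR
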