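import Groth.Agent.Lib.Helper24.ExtPow.KerMap
import Groth.Agent.Lib.Helper24.DeRhamLemmas
import Mathlib.LinearAlgebra.Alternating.Curry
import Mathlib.LinearAlgebra.Isomorphisms

/-! de Rham differential on a quotient receptacle. -/

set_option autoImplicit false

namespace Groth.Agent.Lib.Helper24.QuotDR

universe u

open exteriorPower DeRham

variable (R A : Type u) [CommRing R] [CommRing A] [Algebra R A]

local notation "KD" => Ω[A⁄R]
local notation "E" => ExteriorAlgebra A (Ω[A⁄R])
local notation "DD" => KaehlerDifferential.D R A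
local notation "ιE" => ExteriorAlgebra.ι A (M := Ω[A⁄R])

/-- coercion of `exteriorPower.map` is `ExteriorAlgebra.map`. -/
lemma coe_map {M N : Type*} [AddCommGroup M] [Module A M] [AddCommGroup N] [Module A N]
    (f : M →ₗ[A] N) (p : ℕ) (x : ↥(⋀[A]^p M)) :
    ((exteriorPower.map p f x : ↥(⋀[A]^p N)) : ExteriorAlgebra A N) =
      ExteriorAlgebra.map f (x : ExteriorAlgebra A M) := by
  have hx : x ∈ Submodule.span A (Set.range (ιMulti A p (M := M))) := by
    rw [ιMulti_span]; trivial
  induction hx using Submodule.span_induction with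
  | mem y hy =>
    obtain ⟨v, rfl⟩ := hy
    rw [exteriorPower.map_apply_ιMulti, ιMulti_apply_coe, ιMulti_apply_coe,
      ExteriorAlgebra.map_apply_ιMulti]
  | zero => simp
  | add y z _ _ hy hz => simp only [map_add, Submodule.coe_add, hy, hz]
  | smul c y _ hy => simp only [map_smul, Submodule.coe_smul, hy]

variable (dA : ∀ p : ℕ, ↥(⋀[A]^p (Ω[A⁄R])) →ₗ[R] ↥(⋀[A]^(p + 1) (Ω[A⁄R])))
    (hdA : DeRham.IsDiff (KaehlerDifferential.D R A) dA)

/-- `z ω = d ω` as an element of the exterior algebra. -/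
noncomputable def z (ω : KD) : E := ((dA 1 ((exteriorPower.oneEquiv A KD).symm ω) : ↥(⋀[A]^(1 + 1) KD)) : E)

lemma z_add (x y : KD) : z R A dA (x + y) = z R A dA x + z R A dA y := by
  unfold z
  rw [map_add, map_add, Submodule.coe_add]

lemma oneEquiv_symm_smul_D (c e : A) :
    (exteriorPower.oneEquiv A KD).symm (c • DD e) = gen DD 1 c (fun _ => e) := by
  rw [LinearEquiv.symm_apply_eq]
  unfold gen
  rw [map_smul, exteriorPower.oneEquiv_ιMulti]

include hdA in
lemma z_smul_D (c e : A) : z R A dA (c • DD e) = ιE (DD c) * ιE (DD e) := by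
  unfold z
  rw [oneEquiv_symm_smul_D, hdA.1, ιMulti_apply_coe, ExteriorAlgebra.ιMulti_succ_apply,
    ExteriorAlgebra.ιMulti_succ_apply, ExteriorAlgebra.ιMulti_zero_apply, mul_one]
  rfl

/-- the product `Db₁ ∧ … ∧ Db_q` in the exterior algebra. -/
noncomputable def P {q : ℕ} (b : Fin q → A) : E := ExteriorAlgebra.ιMulti A q (fun i => DD (b i))

/-- the Leibniz claim. -/
def Claim (q : ℕ) (ω : KD) : Prop :=
  ∀ (a : A) (b : Fin q → A),
    ((dA (q + 1) (a • ιMulti A (q + 1) (Fin.cons ω (fun i => DD (b i)) : Fin (q + 1) → KD)) :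
      ↥(⋀[A]^(q + 1 + 1) KD)) : E) =
      ιE (DD a) * ιE ω * P R A b + a • (z R A dA ω * P R A b)

lemma cons_add_ιMulti (q : ℕ) (x y : KD) (u : Fin q → KD) :
    ιMulti A (q + 1) (Fin.cons (x + y) u : Fin (q + 1) → KD) =
      ιMulti A (q + 1) (Fin.cons x u : Fin (q + 1) → KD) +
        ιMulti A (q + 1) (Fin.cons y u : Fin (q + 1) → KD) := by
  have := (ιMulti A (q + 1) (M := KD)).toMultilinearMap.cons_add u x y
  simpa only [AlternatingMap.coe_multilinearMap] using this

lemma cons_smul_ιMulti (q : ℕ) (c : A) (x : KD) (u : Fin q → KD) :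
    ιMulti A (q + 1) (Fin.cons (c • x) u : Fin (q + 1) → KD) =
      c • ιMulti A (q + 1) (Fin.cons x u : Fin (q + 1) → KD) := by
  have := (ιMulti A (q + 1) (M := KD)).toMultilinearMap.cons_smul u c x
  simpa only [AlternatingMap.coe_multilinearMap] using this

lemma cons_zero_ιMulti (q : ℕ) (u : Fin q → KD) :
    ιMulti A (q + 1) (Fin.cons (0 : KD) u : Fin (q + 1) → KD) = 0 :=
  (ιMulti A (q + 1)).map_coord_zero 0 (by simp)

lemma claim_zero (q : ℕ) : Claim R A dA q 0 := by
  intro a b
  rw [cons_zero_ιMulti, smul_zero, map_zero]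
  have : z R A dA 0 = 0 := by unfold z; simp
  rw [this]
  simp

lemma claim_add (q : ℕ) {x y : KD} (hx : Claim R A dA q x) (hy : Claim R A dA q y) :
    Claim R A dA q (x + y) := by
  intro a b
  rw [cons_add_ιMulti, smul_add, map_add, Submodule.coe_add, hx a b, hy a b, z_add, map_add]
  simp only [mul_add, add_mul, smul_add]
  abel

include hdA in
lemma claim_smul_D (q : ℕ) (c e : A) : Claim R A dA q (c • DD e) := by
  intro a b
  have h1 : a • ιMulti A (q + 1) (Fin.cons (c • DD e) (fun i => DD (b i)) : Fin (q + 1) → KD) =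
      gen DD (q + 1) (a * c) (Fin.cons e b) := by
    unfold gen
    rw [cons_smul_ιMulti, smul_smul]
    congr 2
    funext i
    refine Fin.cases ?_ (fun j => ?_) i
    · simp
    · simp
  rw [h1, hdA.1, ιMulti_apply_coe, ExteriorAlgebra.ιMulti_succ_apply, z_smul_D R A dA hdA]
  have h2 : ExteriorAlgebra.ιMulti A (q + 1) (Matrix.vecTail
      (Fin.cons (DD (a * c)) (fun i => DD ((Fin.cons e b : Fin (q + 1) → A) i)) :
        Fin (q + 1 + 1) → KD)) = ιE (DD e) * P R A b := by
    have : Matrix.vecTail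
        (Fin.cons (DD (a * c)) (fun i => DD ((Fin.cons e b : Fin (q + 1) → A) i)) :
          Fin (q + 1 + 1) → KD) = (Fin.cons (DD e) (fun i => DD (b i)) : Fin (q + 1) → KD) := by
      funext i
      refine Fin.cases ?_ (fun j => ?_) i
      · simp [Matrix.vecTail]
      · simp [Matrix.vecTail]
    rw [this, ExteriorAlgebra.ιMulti_succ_apply]
    unfold P
    congr 2
  rw [h2]
  have h3 : (Fin.cons (DD (a * c)) (fun i => DD ((Fin.cons e b : Fin (q + 1) → A) i)) :
      Fin (q + 1 + 1) → KD) 0 = DD (a * c) := rfl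
  rw [h3, Derivation.leibniz, map_add, map_smul, map_smul, map_smul]
  simp only [add_mul, smul_mul_assoc, mul_smul_comm, mul_assoc]
  abel

include hdA in
lemma claim_all (q : ℕ) (ω : KD) : Claim R A dA q ω := by
  have hω : ω ∈ Submodule.span A (Set.range DD) := by
    rw [KaehlerDifferential.span_range_derivation]; trivial
  have key : ∀ c : A, Claim R A dA q (c • ω) := by
    induction hω using Submodule.span_induction with
    | mem y hy =>
      obtain ⟨e, rfl⟩ := hy
      intro c
      exact claim_smul_D R A dA hdA q c e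
    | zero =>
      intro c
      rw [smul_zero]
      exact claim_zero R A dA q
    | add y z _ _ hy hz =>
      intro c
      rw [smul_add]
      exact claim_add R A dA q (hy c) (hz c)
    | smul c' y _ hy =>
      intro c
      rw [smul_smul]
      exact hy (c * c')
  have := key 1
  rwa [one_smul] at this

variable {Ω' : Type u} [AddCommGroup Ω'] [Module A Ω']
    (π : Ω[A⁄R] →ₗ[A] Ω')

/-- the additive map whose vanishing on `ker ⋀^p π` we need. -/
noncomputable def Zmap (p : ℕ) : ↥(⋀[A]^p KD) →+ ↥(⋀[A]^(p + 1) Ω') :=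
  (exteriorPower.map (p + 1) π).toAddMonoidHom.comp (dA p).toAddMonoidHom

lemma Zmap_apply (p : ℕ) (x : ↥(⋀[A]^p KD)) :
    Zmap R A dA π p x = exteriorPower.map (p + 1) π (dA p x) := rfl

/-- the good elements `W`. -/
def W : Set KD := {ω | π ω = 0 ∧
      exteriorPower.map 2 π (dA 1 ((exteriorPower.oneEquiv A (Ω[A⁄R])).symm ω)) = 0}

include hdA in
lemma Z1 (q : ℕ) {ω : KD} (hω : ω ∈ W R A dA π) (a : A) (b : Fin q → A) :
    Zmap R A dA π (q + 1) (a • ιMulti A (q + 1) (Fin.cons ω (fun i => DD (b i)) : Fin (q + 1) → KD)) = 0 := by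
  rw [Zmap_apply]
  apply Subtype.ext
  rw [coe_map, claim_all R A dA hdA q ω a b, map_add, map_mul, map_mul, map_smul, map_mul,
    ExteriorAlgebra.map_apply_ι, ExteriorAlgebra.map_apply_ι, hω.1, map_zero]
  have : ExteriorAlgebra.map π (z R A dA ω) = 0 := by
    unfold z
    rw [← coe_map, hω.2]
    rfl
  rw [this]
  simp

/-- left multiplication by `ω`. -/
noncomputable def mulL (q : ℕ) (ω : KD) : ↥(⋀[A]^q KD) →ₗ[A] ↥(⋀[A]^(q + 1) KD) :=
  alternatingMapLinearEquiv ((ιMulti A (q + 1) (M := KD)).curryLeft ω)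

lemma mulL_ιMulti (q : ℕ) (ω : KD) (u : Fin q → KD) :
    mulL R A q ω (ιMulti A q u) = ιMulti A (q + 1) (Fin.cons ω u : Fin (q + 1) → KD) := by
  unfold mulL
  rw [alternatingMapLinearEquiv_apply_ιMulti, AlternatingMap.curryLeft_apply_apply]
  rfl

include hdA in
lemma Z2 (q : ℕ) {ω : KD} (hω : ω ∈ W R A dA π) (a : A) (u : Fin q → KD) :
    Zmap R A dA π (q + 1) (a • ιMulti A (q + 1) (Fin.cons ω u : Fin (q + 1) → KD)) = 0 := by
  rw [← mulL_ιMulti]
  generalize ιMulti A q u = y
  revert a
  induction y using DeRhamL.kaehler_induction with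
  | hgen b₀ b =>
    intro a
    unfold gen
    rw [(mulL R A q ω).map_smul, mulL_ιMulti, smul_smul]
    exact Z1 R A dA hdA π q hω (a * b₀) b
  | h0 => intro a; simp
  | hadd x y hx hy =>
    intro a
    rw [map_add, smul_add, map_add, hx a, hy a, add_zero]

include hdA in
lemma Z3 (q : ℕ) (hker : LinearMap.ker π ≤ Submodule.span A (W R A dA π)) {ω : KD} (hω : π ω = 0)
    (a : A) (u : Fin q → KD) :
    Zmap R A dA π (q + 1) (a • ιMulti A (q + 1) (Fin.cons ω u : Fin (q + 1) → KD)) = 0 := by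
  have h := hker (LinearMap.mem_ker.mpr hω)
  clear hω
  revert a
  induction h using Submodule.span_induction with
  | mem y hy => intro a; exact Z2 R A dA hdA π q hy a u
  | zero => intro a; rw [cons_zero_ιMulti, smul_zero, map_zero]
  | add y z _ _ hy hz =>
    intro a
    rw [cons_add_ιMulti, smul_add, map_add, hy a, hz a, add_zero]
  | smul c y _ hy =>
    intro a
    rw [cons_smul_ιMulti, smul_smul]
    exact hy (a * c)

include hdA in
lemma Z4 (q : ℕ) (hker : LinearMap.ker π ≤ Submodule.span A (W R A dA π))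
    (v : Fin (q + 1) → KD) (i : Fin (q + 1)) (hi : π (v i) = 0) (a : A) :
    Zmap R A dA π (q + 1) (a • ιMulti A (q + 1) v) = 0 := by
  by_cases h0 : i = 0
  · subst h0
    have : v = Fin.cons (v 0) (Fin.tail v) := (Fin.cons_self_tail v).symm
    rw [this]
    exact Z3 R A dA hdA π q hker hi a _
  · have hsw : ιMulti A (q + 1) (v ∘ Equiv.swap 0 i) = - ιMulti A (q + 1) v :=
      (ιMulti A (q + 1)).map_swap v (Ne.symm h0)
    have h1 : a • ιMulti A (q + 1) v = (-a) • ιMulti A (q + 1) (v ∘ Equiv.swap 0 i) := by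
      rw [hsw, smul_neg, neg_smul, neg_neg]
    have h2 : v ∘ Equiv.swap 0 i = Fin.cons (v i) (Fin.tail (v ∘ Equiv.swap 0 i)) := by
      rw [← Fin.cons_self_tail (v ∘ Equiv.swap 0 i)]
      simp
    rw [h1, h2]
    exact Z3 R A dA hdA π q hker hi (-a) _

include hdA in
lemma Z5 (q : ℕ) (hker : LinearMap.ker π ≤ Submodule.span A (W R A dA π))
    (x : ↥(⋀[A]^(q + 1) KD)) (hx : x ∈ ExtPowKer.N π (q + 1)) (a : A) :
    Zmap R A dA π (q + 1) (a • x) = 0 := by
  revert a
  induction hx using Submodule.span_induction with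
  | mem y hy =>
    obtain ⟨v, ⟨i, hi⟩, rfl⟩ := hy
    intro a
    exact Z4 R A dA hdA π q hker v i hi a
  | zero => intro a; rw [smul_zero, map_zero]
  | add y z _ _ hy hz => intro a; rw [smul_add, map_add, hy a, hz a, add_zero]
  | smul c y _ hy => intro a; rw [smul_smul]; exact hy (a * c)

lemma map_zero_injective {x : ↥(⋀[A]^0 KD)} (hx : exteriorPower.map 0 π x = 0) : x = 0 := by
  have h := LinearMap.congr_fun (exteriorPower.zeroEquiv_naturality π) x
  rw [LinearMap.comp_apply, hx, map_zero] at h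
  have : (exteriorPower.zeroEquiv A KD) x = 0 := h.symm
  exact (exteriorPower.zeroEquiv A KD).injective (by rw [this, map_zero])

include hdA in
theorem star (hπ : Function.Surjective π) (hker : LinearMap.ker π ≤ Submodule.span A (W R A dA π))
    (p : ℕ) (x : ↥(⋀[A]^p KD)) (hx : exteriorPower.map p π x = 0) :
    exteriorPower.map (p + 1) π (dA p x) = 0 := by
  cases p with
  | zero =>
    rw [map_zero_injective R A π hx, map_zero, map_zero]
  | succ q =>
    have hx' : x ∈ ExtPowKer.N π (q + 1) := by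
      rw [← ExtPowKer.ker_map_eq π hπ]
      exact hx
    have := Z5 R A dA hdA π q hker x hx' 1
    rwa [one_smul, Zmap_apply] at this

section descent

variable [Module R Ω'] [IsScalarTower R A Ω']

/-- `⋀^p π` as an `R`-linear map. -/
noncomputable def fR (p : ℕ) : ↥(⋀[A]^p KD) →ₗ[R] ↥(⋀[A]^p Ω') :=
  (exteriorPower.map p π).restrictScalars R

lemma fR_apply (p : ℕ) (x : ↥(⋀[A]^p KD)) : fR R A π p x = exteriorPower.map p π x := rfl

lemma fR_surjective (hπ : Function.Surjective π) (p : ℕ) : Function.Surjective (fR R A π p) :=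
  exteriorPower.map_surjective hπ

variable (hπ : Function.Surjective π) (hker : LinearMap.ker π ≤ Submodule.span A (W R A dA π))

include hdA hπ hker in
lemma ker_le (p : ℕ) : LinearMap.ker (fR R A π p) ≤ LinearMap.ker ((fR R A π (p + 1)) ∘ₗ dA p) := by
  intro x hx
  rw [LinearMap.mem_ker, LinearMap.comp_apply, fR_apply]
  exact star R A dA hdA π hπ hker p x hx

/-- the descended differential. -/
noncomputable def dQ (p : ℕ) : ↥(⋀[A]^p Ω') →ₗ[R] ↥(⋀[A]^(p + 1) Ω') :=
  ((LinearMap.ker (fR R A π p)).liftQ ((fR R A π (p + 1)) ∘ₗ dA p) (ker_le R A dA hdA π hπ hker p)) ∘ₗ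
    ((fR R A π p).quotKerEquivOfSurjective (fR_surjective R A π hπ p)).symm.toLinearMap

lemma dQ_map (p : ℕ) (x : ↥(⋀[A]^p KD)) :
    dQ R A dA hdA π hπ hker p (exteriorPower.map p π x) = exteriorPower.map (p + 1) π (dA p x) := by
  unfold dQ
  rw [LinearMap.comp_apply, LinearEquiv.coe_coe, ← fR_apply R A π p x,
    LinearMap.quotKerEquivOfSurjective_symm_apply, Submodule.liftQ_apply]
  rfl

include hdA hπ hker in
theorem main : ∃ d : ∀ p : ℕ, ↥(⋀[A]^p Ω') →ₗ[R] ↥(⋀[A]^(p + 1) Ω'),
      DeRham.IsDiff (π.compDer (KaehlerDifferential.D R A)) d ∧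
        ∀ (p : ℕ) (x : ↥(⋀[A]^p (Ω[A⁄R]))),
          d p (exteriorPower.map p π x) = exteriorPower.map (p + 1) π (dA p x) := by
  refine ⟨dQ R A dA hdA π hπ hker, ⟨?_, ?_⟩, dQ_map R A dA hdA π hπ hker⟩
  · intro p b₀ b
    have h1 : gen (π.compDer DD) p b₀ b = exteriorPower.map p π (gen DD p b₀ b) := by
      unfold gen
      rw [map_smul, exteriorPower.map_apply_ιMulti]
      rfl
    rw [h1, dQ_map, hdA.1, exteriorPower.map_apply_ιMulti]
    congr 1
    funext i
    refine Fin.cases ?_ (fun j => ?_) i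
    · simp
    · simp
  · intro p
    apply LinearMap.ext
    intro y
    obtain ⟨x, rfl⟩ := exteriorPower.map_surjective hπ (n := p) y
    rw [LinearMap.comp_apply, dQ_map, dQ_map]
    have := LinearMap.congr_fun (hdA.2 p) x
    rw [LinearMap.comp_apply] at this
    rw [this]
    simp

end descent

end Groth.Agent.Lib.Helper24.QuotDR
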